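import Groth.Agent.Lib.Residual14.Main
import Groth.Agent.Lib.AlgSpRel14.Discrete
import Groth.Agent.Lib.DistSq15.Cover
import Groth.Agent.Lib.AlgSpDecent.FiniteGeneric
import Groth.Agent.Lib.AlgSpace.DVRSeparated

/-!
# Factorisation of morphisms from reduced spaces through residual spaces
-/

universe u

set_option backward.isDefEq.respectTransparency.types false

open CategoryTheory CategoryTheory.Limits AlgebraicGeometry AlgSp Opposite MorphismProperty Topology

namespace Groth.Agent.Residual15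

open Groth.Agent.AlgSpDecent Groth.Agent.AlgSpace

variable {S : Scheme.{u}}

/-- The image of an affine scheme in a Noetherian affine scheme is finite if it contains no specializations. -/
theorem finite_range_Spec {A B : CommRingCat.{u}} [IsNoetherianRing A] (g : Spec B ⟶ Spec A)
    (h : ∀ a b, g a ⤳ g b → g a = g b) : (Set.range g).Finite := by
  obtain ⟨φ, rfl⟩ := Spec.map_surjective g
  have hfin := Ideal.finite_minimalPrimes_of_isNoetherianRing A (RingHom.ker φ.hom)
  refine Set.Finite.of_finite_image (f := fun p : Spec A => p.asIdeal) (hfin.subset ?_)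
    fun p _ q _ e => PrimeSpectrum.ext e
  rintro _ ⟨_, ⟨b, rfl⟩, rfl⟩
  obtain ⟨m, hm, hle⟩ := Ideal.exists_minimalPrimes_le (I := RingHom.ker φ.hom)
    (J := ((Spec.map φ) b).asIdeal) (by
      intro a ha
      change φ.hom a ∈ b.asIdeal
      rw [RingHom.mem_ker.1 ha]
      exact b.asIdeal.zero_mem)
  obtain ⟨q, hq, -, hqm⟩ := Ideal.exists_comap_eq_of_mem_minimalPrimes φ.hom (I := ⊥) m hm
  have e : Spec.map φ ⟨q, hq⟩ = Spec.map φ b := h _ _ (by
    refine (PrimeSpectrum.le_iff_specializes _ _).1 ?_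
    change q.comap φ.hom ≤ _
    rw [hqm]
    exact hle)
  show (Spec.map φ b).asIdeal ∈ _
  rw [← e]
  change q.comap φ.hom ∈ _
  rw [hqm]
  exact hm

/-- The image of an affine scheme in a Noetherian affine scheme is finite if it contains no specializations. -/
theorem finite_range {W O : Scheme.{u}} [IsAffine W] [IsAffine O] [IsLocallyNoetherian O] (g : W ⟶ O)
    (h : ∀ a b, g a ⤳ g b → g a = g b) : (Set.range g).Finite := by
  have : IsNoetherianRing Γ(O, ⊤) := IsLocallyNoetherian.component_noetherian ⟨⊤, isAffineOpen_top _⟩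
  let g' := W.isoSpec.inv ≫ g ≫ O.isoSpec.hom
  have key : (Set.range g').Finite := finite_range_Spec g' fun a b hab => by
    simp only [g', Scheme.Hom.comp_apply] at hab ⊢
    exact congrArg _ (h _ _ (O.isoSpec.hom.isOpenEmbedding.isInducing.specializes_iff.1 hab))
  refine (key.preimage O.isoSpec.hom.isOpenEmbedding.injective.injOn).subset ?_
  rintro _ ⟨w, rfl⟩
  refine ⟨W.isoSpec.hom w, ?_⟩
  rw [← Scheme.Hom.comp_apply, ← Scheme.Hom.comp_apply]
  simp only [g', Iso.hom_inv_id_assoc]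

/-- The preimages of the points are open, when the image is finite without specializations. -/
theorem isOpen_fibre {W O : Scheme.{u}} (g : W ⟶ O) (hf : (Set.range g).Finite)
    (h : ∀ a b, g a ⤳ g b → g a = g b) (w : W) : IsOpen {a | g a = g w} := by
  have : {a | g a = g w}ᶜ = ⋃ t ∈ Set.range g \ {g w}, g ⁻¹' closure {t} := by
    ext a
    simp only [Set.mem_compl_iff, Set.mem_ofPred_eq, Set.mem_iUnion, Set.mem_preimage]
    constructor
    · exact fun ha => ⟨g a, ⟨⟨a, rfl⟩, ha⟩, subset_closure rfl⟩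
    · rintro ⟨t, ⟨⟨b, rfl⟩, ht⟩, hcl⟩ e
      exact ht ((h b a (specializes_iff_mem_closure.2 hcl)).trans e)
  exact isClosed_compl_iff.1 (this ▸ (hf.sdiff).isClosed_biUnion fun _ _ =>
    isClosed_closure.preimage g.continuous)

/-- A field point over the image of a monomorphism from a residual space factors through it. -/
theorem exists_factor_field {X Z : Space S} (i : Z ⟶ X) [Mono i.hom]
    {L : Type u} [Field L] {str : Spec (CommRingCat.of L) ⟶ S}
    (ξ : (yon S).obj (Over.mk str) ⟶ X.obj)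
    (h : Points.ofPt ξ (IsLocalRing.closedPoint L) ∈ Set.range (Points.map i.hom)) :
    ∃ l, l ≫ i.hom = ξ := by
  let T : Space S := ⟨(yon S).obj (Over.mk str), IsAlgSpace.yon_obj _⟩
  have hsq := IsPullback.of_hasPullback i.hom ξ
  let P : Space S := ⟨pullback i.hom ξ, isAlgSpace_pullback X.property Z.property T.property hsq⟩
  obtain ⟨z, hz⟩ := h
  obtain ⟨w, -, -⟩ := exists_point_lift hsq z (Points.ofScheme (Over.mk str) (IsLocalRing.closedPoint L))
    (by rw [hz, ← Points.ofPt_eq_map_ofScheme])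
  have : Nonempty (Points P.obj) := ⟨w⟩
  have hid : RepWith @Etale (𝟙 ((yon S).obj (Over.mk str))) := repWith_id @Etale _
  have := Residual14.isIso_of_mono (Z' := P) (Z := T) (pullback.snd i.hom ξ) (p := 𝟙 _)
    (locP_of_repWith T.property (repWith_mono etale_le_lfp hid))
    (locP_of_repWith T.property (repWith_mono etale_le_flat hid))
    (surjective_map_of_repWith (repWith_id @Surjective _))
  exact ⟨inv (pullback.snd i.hom ξ) ≫ pullback.fst i.hom ξ,
    by rw [Category.assoc, pullback.condition, IsIso.inv_hom_id_assoc]⟩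

/-- Morphisms from reduced spaces to a point factor through the residual space. -/
theorem factors_residual {Y X Z : Space S} (f : Y ⟶ X) (x : Points X.obj)
    (hf : ∀ y, Points.map f.hom y = x) (hY : EtaleLocally (fun U => IsReduced U) Y.obj)
    (hX : IsLocNoethSp X.obj) (i : Z ⟶ X) [Mono i.hom] (hi : Set.range (Points.map i.hom) = {x}) :
    ∃ g : Y ⟶ Z, g ≫ i = f := by
  obtain ⟨V, b, hbe, hbs, hV⟩ := hY
  have : IsReduced V.left := hV
  obtain ⟨U, a, hae, has⟩ := X.property.atlas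
  have : IsLocallyNoetherian U.left := isLocallyNoetherian_of_etale_chart hX hae
  let q := hae.1.fst' (b ≫ f.hom)
  let sn := hae.1.snd (b ≫ f.hom)
  have sq := hae.1.isPullback' (b ≫ f.hom)
  have hsne : Etale sn.left := hae.2 (b ≫ f.hom) _ _ (hae.1.isPullback (b ≫ f.hom))
  have hsns : Surjective sn.left := has.2 (b ≫ f.hom) _ _ (hae.1.isPullback (b ≫ f.hom))
  let W := hae.1.pullback (b ≫ f.hom)
  have : IsReduced W.left := AlgSpDescent.isReduced_of_smooth sn.left
  have hqx : ∀ w : W.left, Points.ofPt a (q.left w) = x := fun w => by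
    rw [← ofPt_map_comp, sq.w, ofPt_map_comp]
    exact (Points.map_ofPt b f.hom _).symm.trans (hf _)
  have hno : ∀ {u₁ u₂ : W.left}, q.left u₁ ⤳ q.left u₂ → q.left u₁ = q.left u₂ := fun hs =>
    AlgSpRel14.eq_of_specializes_of_ofPt_eq hae hs ((hqx _).trans (hqx _).symm)
  have loc : ∀ w : W.left, ∃ (N : W.left.Opens)
      (l : (yon S).obj (Over.mk (N.ι ≫ W.hom)) ⟶ Z.obj), w ∈ N ∧
      l ≫ i.hom = (yon S).map (Over.homMk N.ι rfl : Over.mk (N.ι ≫ W.hom) ⟶ W) ≫
        (yon S).map sn ≫ b ≫ f.hom := by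
    intro w
    obtain ⟨O, hO, hwO, -⟩ := exists_isAffineOpen_mem_and_subset (X := U.left) (x := q.left w)
      (U := ⊤) trivial
    obtain ⟨N₀, hN₀, hwN, hNO⟩ := exists_isAffineOpen_mem_and_subset (X := W.left) (x := w)
      (U := q.left ⁻¹ᵁ O) hwO
    have : IsAffine O.toScheme := hO
    have : IsAffine N₀.toScheme := hN₀
    have : IsLocallyNoetherian O.toScheme := isLocallyNoetherian_of_isOpenImmersion O.ι
    let g₀ : N₀.toScheme ⟶ O.toScheme := q.left.resLE O N₀ hNO
    have hg₀ : ∀ t, O.ι (g₀ t) = q.left (N₀.ι t) := fun t => by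
      rw [← Scheme.Hom.comp_apply, ← Scheme.Hom.comp_apply, Scheme.Hom.resLE_comp_ι]
    have hsp : ∀ s t, g₀ s ⤳ g₀ t → g₀ s = g₀ t := fun s t hst => by
      apply O.ι.isOpenEmbedding.injective
      rw [hg₀, hg₀]
      exact hno (by rw [← hg₀, ← hg₀]; exact hst.map O.ι.continuous)
    let N' : N₀.toScheme.Opens :=
      ⟨{t | g₀ t = g₀ ⟨w, hwN⟩}, isOpen_fibre g₀ (finite_range g₀ hsp) hsp _⟩
    have : IsReduced N'.toScheme := isReduced_of_isOpenImmersion (N'.ι ≫ N₀.ι)
    obtain ⟨L, _, σ, g₁, hσ, hσu⟩ := Residual14.exists_field_factor (N'.ι ≫ g₀) (g₀ ⟨w, hwN⟩)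
      (fun t => t.2)
    let T : Over S := Over.mk (σ ≫ O.ι ≫ U.hom)
    let σ' : T ⟶ U := Over.homMk (σ ≫ O.ι) (Category.assoc _ _ _)
    obtain ⟨m, hm⟩ := exists_factor_field i ((yon S).map σ' ≫ a) (by
      rw [hi, ofPt_map_comp]
      refine Set.mem_singleton_iff.2 ((congrArg (Points.ofPt a) ?_).trans (hqx w))
      show O.ι (σ (IsLocalRing.closedPoint L)) = q.left w
      rw [hσu, hg₀]
      rfl)
    let N : W.left.Opens := N₀.ι ''ᵁ N'
    let e : N.toScheme ⟶ N'.toScheme := (N₀.ι.isoImage N').inv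
    have he : e ≫ N'.ι ≫ N₀.ι = N.ι := Scheme.Hom.isoImage_inv_ι _ _
    let c : Over.mk (N.ι ≫ W.hom) ⟶ T := Over.homMk (e ≫ g₁) (by
      change (e ≫ g₁) ≫ σ ≫ O.ι ≫ U.hom = N.ι ≫ W.hom
      rw [Category.assoc, reassoc_of% hσ, ← he]
      simp only [g₀, Category.assoc, Scheme.Hom.resLE_comp_ι_assoc, Over.w q]
      rfl)
    refine ⟨N, (yon S).map c ≫ m, ⟨⟨w, hwN⟩, rfl, rfl⟩, ?_⟩
    rw [Category.assoc, hm, ← sq.w, ← Functor.map_comp_assoc, ← Functor.map_comp_assoc]
    congr 2
    refine Over.OverMorphism.ext ?_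
    change (e ≫ g₁) ≫ σ ≫ O.ι = N.ι ≫ q.left
    rw [Category.assoc, reassoc_of% hσ, ← he]
    simp only [g₀, Category.assoc, Scheme.Hom.resLE_comp_ι]
  choose N l hwN hl using loc
  let A : W.left → Over S := fun w => Over.mk ((N w).ι ≫ W.hom)
  let o : ∀ w, A w ⟶ W := fun w => Over.homMk (N w).ι rfl
  let ch : ∀ w, (yon S).obj (A w) ⟶ Y.obj := fun w => (yon S).map (o w ≫ sn) ≫ b
  have hch : ∀ w, RepWith @Etale (ch w) := fun w => by
    have : Etale (o w ≫ sn).left := inferInstanceAs (Etale ((N w).ι ≫ sn.left))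
    exact repWith_comp ((repWith_yon_map_iff _ _).2 this) hbe
  have hc : ∀ y : Points Y.obj, ∃ k v, Points.ofPt (ch k) v = y := fun y => by
    obtain ⟨v, rfl⟩ := surjective_ofPt hbs y
    obtain ⟨w, rfl⟩ := sn.left.surjective v
    refine ⟨w, ⟨w, hwN w⟩, ?_⟩
    rw [ofPt_map_comp]
    rfl
  have hl' : ∀ w, l w ≫ i.hom = ch w ≫ f.hom := fun w => by
    rw [hl, Category.assoc, Functor.map_comp_assoc]
  obtain ⟨g, hg, -⟩ := DistSq15.existsUnique_of_charts Y.property A ch hch hc l fun j k T s t e =>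
    (cancel_mono i.hom).1 (by rw [Category.assoc, Category.assoc, hl', hl', reassoc_of% e])
  refine ⟨ObjectProperty.homMk g, ObjectProperty.hom_ext _ ?_⟩
  obtain ⟨g', -, huniq⟩ := DistSq15.existsUnique_of_charts Y.property A ch hch hc
    (fun w => ch w ≫ f.hom) fun j k T s t e => by rw [reassoc_of% e]
  exact (huniq _ fun w => by
    change ch w ≫ g ≫ i.hom = _
    rw [← Category.assoc, hg, hl']).trans (huniq _ fun w => rfl).symm

end Groth.Agent.Residual15
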